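import Mathlib

/-!
# Torsion-free modules over reduced Noetherian rings: the annihilator lies in a minimal prime (helper2)
-/

set_option autoImplicit false

namespace Groth.Agent.Helper2.TFAlg

variable {R : Type*} [CommRing R]

/-- in a reduced ring, an element outside all minimal primes is regular -/
theorem isRegular_of_notMem_minimalPrimes [IsReduced R] {r : R}
    (h : ∀ q ∈ minimalPrimes R, r ∉ q) : IsRegular r := by
  rw [isRegular_iff_mem_nonZeroDivisors, mem_nonZeroDivisors_iff_right]
  intro y hy
  by_contra hy0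
  have h1 : y ∉ (⊥ : Ideal R).radical := by
    change y ∉ nilradical R
    rw [nilradical_eq_zero]
    exact hy0
  rw [← Ideal.sInf_minimalPrimes, Ideal.mem_sInf] at h1
  push_neg at h1
  obtain ⟨q, hq, hyq⟩ := h1
  have h2 : y * r ∈ q := by rw [hy]; exact q.zero_mem
  rcases (Ideal.minimalPrimes_isPrime hq).mem_or_mem h2 with h3 | h3
  · exact hyq h3
  · exact h q hq h3

/-- over a reduced Noetherian ring, the annihilator of a nonzero torsion-free module lies in a minimal
prime -/
theorem exists_minimalPrime_ge_annihilator [IsReduced R] [IsNoetherianRing R]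
    (N : Type*) [AddCommGroup N] [Module R N] [Module.IsTorsionFree R N] [Nontrivial N] :
    ∃ q ∈ minimalPrimes R, Module.annihilator R N ≤ q := by
  by_contra hcon
  push_neg at hcon
  have hfin : (minimalPrimes R).Finite := minimalPrimes.finite_of_isNoetherianRing R
  have hna : ¬ ((Module.annihilator R N : Set R) ⊆ ⋃ q ∈ (↑hfin.toFinset : Set (Ideal R)), (q : Set R)) := by
    intro hsub
    obtain ⟨q, hq, hle⟩ := (Ideal.subset_union_prime (f := fun q : Ideal R => q) ⊥ ⊥
      (fun q hq _ _ => Ideal.minimalPrimes_isPrime (hfin.mem_toFinset.1 hq))).1 hsub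
    exact hcon q (hfin.mem_toFinset.1 hq) hle
  rw [Set.not_subset] at hna
  obtain ⟨r, hr, hr'⟩ := hna
  have hreg : IsRegular r := by
    apply isRegular_of_notMem_minimalPrimes
    intro q hq hrq
    apply hr'
    simp only [Set.mem_iUnion]
    exact ⟨q, by simpa using hq, hrq⟩
  obtain ⟨n, hn⟩ := exists_ne (0 : N)
  apply hn
  have h0 : r • n = 0 := Module.mem_annihilator.1 hr n
  exact (hreg.smul_eq_zero_iff_right).1 h0

/-- a minimal prime of a Noetherian ring is the only minimal prime meeting some basic open -/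
theorem exists_notMem_forall_le [IsNoetherianRing R] {p : Ideal R} (hp : p ∈ minimalPrimes R) :
    ∃ f : R, f ∉ p ∧ ∀ P : Ideal R, P.IsPrime → f ∉ P → p ≤ P := by
  classical
  have hfin : (minimalPrimes R).Finite := minimalPrimes.finite_of_isNoetherianRing R
  haveI := Ideal.minimalPrimes_isPrime hp
  have h1 : ¬ ((hfin.toFinset.erase p).prod (fun q : Ideal R => q) ≤ p) := by
    rw [Ideal.IsPrime.prod_le inferInstance]
    rintro ⟨q, hq, hle⟩
    rw [Finset.mem_erase] at hq
    have hq' := hfin.mem_toFinset.1 hq.2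
    haveI := Ideal.minimalPrimes_isPrime hq'
    exact hq.1 (le_antisymm hle (hp.2 ⟨inferInstance, bot_le⟩ hle))
  rw [SetLike.not_le_iff_exists] at h1
  obtain ⟨f, hf, hfp⟩ := h1
  refine ⟨f, hfp, fun P hP hfP => ?_⟩
  obtain ⟨q, hq, hqP⟩ := Ideal.exists_minimalPrimes_le (I := ⊥) (J := P) bot_le
  by_cases hqp : q = p
  · exact hqp ▸ hqP
  · exfalso
    apply hfP
    apply hqP
    have hmem : q ∈ hfin.toFinset.erase p :=
      Finset.mem_erase.2 ⟨hqp, hfin.mem_toFinset.2 hq⟩
    exact Ideal.prod_le_inf.trans (Finset.inf_le hmem) hf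

end Groth.Agent.Helper2.TFAlg
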