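import Mathlib
import Groth.Prelude.Def_TorSh
import Groth.Prelude.Def_CohB1
import Groth.Agent.Lib.Lead.SD1
import Groth.Agent.Lib.Helper1.FinPush
import Groth.Agent.Lib.Helper2.TorFree.Alg

/-!
# Coherent modules with torsion-free stalks on a reduced Noetherian scheme: generic points of the
support (helper2)
-/

set_option autoImplicit false
universe u
open CategoryTheory CategoryTheory.Limits AlgebraicGeometry TopologicalSpace

namespace Groth.Agent.Helper2.TFGeo

open Groth.Agent.Lead Groth.Agent.Helper1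

variable {X : Scheme.{u}}

/-- specialization from inclusion of primes in an affine open -/
theorem specializes_of_le {U : X.Opens} (hU : IsAffineOpen U) (x y : U)
    (h : (hU.primeIdealOf y).asIdeal ≤ (hU.primeIdealOf x).asIdeal) : y.1 ⤳ x.1 := by
  have h1 : hU.primeIdealOf y ⤳ hU.primeIdealOf x :=
    (PrimeSpectrum.le_iff_specializes _ _).1 h
  have h2 := h1.map hU.fromSpec.continuous
  rwa [hU.fromSpec_primeIdealOf, hU.fromSpec_primeIdealOf] at h2

attribute [local instance] SD.stalkModule

/-- a point of the support at which the stalk is torsion-free has a generization in the support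
which is a generic point of the affine open -/
theorem exists_generic_mem_support [IsReduced X] [IsLocallyNoetherian X] (F : X.Modules)
    (hF : Coh.IsCoh F) {U : X.Opens} (hU : IsAffineOpen U) (x : U)
    (hx : x.1 ∈ CohB1.support F)
    (htf : Module.IsTorsionFree (X.presheaf.stalk x.1) (F.presheaf.stalk x.1)) :
    ∃ y : U, y.1 ∈ CohB1.support F ∧ (hU.primeIdealOf y).asIdeal ∈ minimalPrimes Γ(X, U) ∧
      (hU.primeIdealOf y).asIdeal ≤ (hU.primeIdealOf x).asIdeal := by
  haveI : F.IsQuasicoherent := hF.1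
  haveI := SD.isLocalizedModule_germ F hU x
  haveI := hU.isLocalization_stalk x
  haveI : Nontrivial (F.presheaf.stalk x.1) := not_subsingleton_iff_nontrivial.1 hx
  obtain ⟨Q, hQ, hle⟩ := TFAlg.exists_minimalPrime_ge_annihilator (R := X.presheaf.stalk x.1)
    (F.presheaf.stalk x.1)
  haveI hQp : Q.IsPrime := Ideal.minimalPrimes_isPrime hQ
  obtain ⟨q, hq⟩ : ∃ q : Ideal Γ(X, U), q = Q.comap (algebraMap Γ(X, U) (X.presheaf.stalk x.1)) :=
    ⟨_, rfl⟩
  have hqmin : q ∈ minimalPrimes Γ(X, U) := by
    have h1 := IsLocalization.minimalPrimes_map (hU.primeIdealOf x).asIdeal.primeCompl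
      (X.presheaf.stalk x.1) (⊥ : Ideal Γ(X, U))
    rw [Ideal.map_bot] at h1
    have hQ' : Q ∈ (⊥ : Ideal (X.presheaf.stalk x.1)).minimalPrimes := hQ
    rw [h1] at hQ'
    rw [hq]
    exact hQ'
  haveI hqprime : q.IsPrime := Ideal.minimalPrimes_isPrime hqmin
  have hqle : q ≤ (hU.primeIdealOf x).asIdeal := by
    have h1 := (IsLocalization.isPrime_iff_isPrime_disjoint
      (hU.primeIdealOf x).asIdeal.primeCompl (X.presheaf.stalk x.1) Q).1 hQp
    intro a ha
    by_contra hna
    rw [hq] at ha
    exact Set.disjoint_left.1 h1.2 hna ha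
  obtain ⟨y, hy⟩ : ∃ y : U, hU.primeIdealOf y = ⟨q, hqprime⟩ :=
    ⟨⟨hU.fromSpec ⟨q, hqprime⟩, SD.fromSpec_mem hU _⟩, SD.primeIdealOf_fromSpec hU _⟩
  refine ⟨y, ?_, by rw [hy]; exact hqmin, by rw [hy]; exact hqle⟩
  haveI := FinPush.finite_sections F hF hU
  have hsupp : (⟨q, hqprime⟩ : PrimeSpectrum Γ(X, U)) ∈ Module.support Γ(X, U) Γ(F, U) := by
    rw [Module.mem_support_iff_of_finite]
    intro a ha
    change a ∈ q
    rw [hq]
    change algebraMap Γ(X, U) (X.presheaf.stalk x.1) a ∈ Q
    apply hle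
    rw [Module.mem_annihilator]
    intro z
    obtain ⟨⟨m, s⟩, hz⟩ := IsLocalizedModule.surj (hU.primeIdealOf x).asIdeal.primeCompl
      (SD.germₗ F x) z
    have hunit := IsLocalizedModule.map_units (SD.germₗ F x) s
    rw [Module.End.isUnit_iff] at hunit
    apply hunit.1
    change s.1 • (algebraMap Γ(X, U) (X.presheaf.stalk x.1) a • z) = s.1 • (0 : F.presheaf.stalk x.1)
    rw [smul_zero]
    change s.1 • (a • z) = 0
    rw [smul_comm]
    have hz' : s.1 • z = SD.germₗ F x m := hz
    rw [hz', ← map_smul, Module.mem_annihilator.1 ha m, map_zero]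
  rw [Module.mem_support_iff] at hsupp
  haveI := SD.isLocalizedModule_germ F hU y
  change ¬ Subsingleton (F.presheaf.stalk y.1)
  intro hsub
  rw [← hy] at hsupp
  haveI : Subsingleton (LocalizedModule (hU.primeIdealOf y).asIdeal.primeCompl Γ(F, U)) :=
    (IsLocalizedModule.iso (hU.primeIdealOf y).asIdeal.primeCompl
      (SD.germₗ F y)).toEquiv.subsingleton
  exact not_subsingleton _ ‹_›

end Groth.Agent.Helper2.TFGeo
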