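import Mathlib
import Groth.Agent.Lib.Helper2.TorFree.Geo
import Groth.Agent.Lib.Lead.EpiPull

/-!
# The support of a nonzero coherent module with torsion-free stalks on a reduced Noetherian scheme
without isolated points has dimension at least one (helper2)
-/

set_option autoImplicit false
universe u
open CategoryTheory CategoryTheory.Limits AlgebraicGeometry TopologicalSpace

namespace Groth.Agent.Helper2.TFDim

open Groth.Agent.Lead Groth.Agent.Helper1

variable {X : Scheme.{u}}

/-- two distinct points of a set, one specializing to the other, give dimension at least one -/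
theorem one_le_dim_of_specializes {T : Type*} [TopologicalSpace T] [T0Space T] {S : Set T}
    {x y : T} (hx : x ∈ S) (hy : y ∈ S) (h : y ⤳ x) (hne : y ≠ x) :
    1 ≤ topologicalKrullDim S := by
  unfold topologicalKrullDim
  rw [Order.one_le_krullDim_iff]
  refine ⟨⟨closure {⟨x, hx⟩}, isIrreducible_singleton.closure, isClosed_closure⟩,
    ⟨closure {⟨y, hy⟩}, isIrreducible_singleton.closure, isClosed_closure⟩, ?_⟩
  have h1 : (⟨y, hy⟩ : S) ⤳ ⟨x, hx⟩ := (subtype_specializes_iff _ _).2 h
  refine lt_of_le_not_ge ?_ ?_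
  · change closure {(⟨x, hx⟩ : S)} ⊆ closure {⟨y, hy⟩}
    refine isClosed_closure.closure_subset_iff.2 ?_
    rw [Set.singleton_subset_iff]
    exact specializes_iff_mem_closure.1 h1
  · intro hle
    have hle' : closure {(⟨y, hy⟩ : S)} ⊆ closure {⟨x, hx⟩} := hle
    have h2 : (⟨x, hx⟩ : S) ⤳ ⟨y, hy⟩ :=
      specializes_iff_mem_closure.2 (hle' (subset_closure rfl))
    have h3 : x ⤳ y := (subtype_specializes_iff _ _).1 h2
    exact hne (h.antisymm h3).eq

theorem one_le_dim_support [IsReduced X] [IsLocallyNoetherian X] [CompactSpace X]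
    (hpure : ∀ x : X, ¬ IsOpen ({x} : Set X)) (F : X.Modules) (hF : Coh.IsCoh F)
    (hF0 : ¬ IsZero F) (htf : TorSh.IsTorsionFree F) :
    1 ≤ topologicalKrullDim (CohB1.support F) := by
  have hcl : IsClosed (CohB1.support F) := FtGen.isClosed_support F hF.2
  have hne : (CohB1.support F).Nonempty := by
    rw [Set.nonempty_iff_ne_empty]
    intro he
    exact hF0 ((EpiPull.isZero_iff_support_eq_empty F).2 he)
  obtain ⟨x, hx, hxcl⟩ := hcl.exists_closed_singleton hne
  obtain ⟨U, hU, hxU⟩ : ∃ U : X.Opens, IsAffineOpen U ∧ x ∈ U := by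
    obtain ⟨_, ⟨U, hU, rfl⟩, h1, -⟩ :=
      X.isBasis_affineOpens.exists_subset_of_mem_open (Set.mem_univ x) isOpen_univ
    exact ⟨U, hU, h1⟩
  obtain ⟨y, hy, hymin, hyle⟩ :=
    TFGeo.exists_generic_mem_support F hF hU ⟨x, hxU⟩ hx (htf x)
  have hspec : y.1 ⤳ x := TFGeo.specializes_of_le hU ⟨x, hxU⟩ y hyle
  by_cases hyx : y.1 = x
  · exfalso
    have hyx' : y = ⟨x, hxU⟩ := Subtype.ext hyx
    rw [hyx'] at hymin
    haveI : IsNoetherianRing Γ(X, U) := IsLocallyNoetherian.component_noetherian ⟨U, hU⟩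
    obtain ⟨f, hf, hall⟩ := TFAlg.exists_notMem_forall_le hymin
    apply hpure x
    have heq : ({x} : Set X) = (X.basicOpen f : Set X) := by
      ext z
      constructor
      · rintro rfl
        exact (SD.mem_basicOpen_iff hU ⟨z, hxU⟩ f).2 hf
      · intro hz
        have hzU : z ∈ U := X.basicOpen_le f hz
        have h1 : f ∉ (hU.primeIdealOf ⟨z, hzU⟩).asIdeal :=
          (SD.mem_basicOpen_iff hU ⟨z, hzU⟩ f).1 hz
        have h2 := hall _ (hU.primeIdealOf ⟨z, hzU⟩).isPrime h1
        have h3 : x ⤳ z := TFGeo.specializes_of_le hU ⟨z, hzU⟩ ⟨x, hxU⟩ h2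
        have h4 : z ∈ closure ({x} : Set X) := specializes_iff_mem_closure.1 h3
        rwa [hxcl.closure_eq] at h4
    rw [heq]
    exact (X.basicOpen f).isOpen
  · exact one_le_dim_of_specializes hx hy hspec hyx

end Groth.Agent.Helper2.TFDim
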