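import Mathlib
import Groth.Prelude.Def_TorSh
import Groth.Prelude.Def_RefHull
import Groth.Agent.Lib.Lead.SD1
import Groth.Agent.Lib.Helper1.QcCech

/-!
# A submodule of a module with torsion-free stalks has torsion-free stalks (helper2;
the two stalk lemmas are adapted from lead's `TorSh2`)
-/

set_option autoImplicit false
set_option backward.isDefEq.respectTransparency.types false
universe u
open CategoryTheory CategoryTheory.Limits AlgebraicGeometry TopologicalSpace Opposite

namespace Groth.Agent.Helper2.TFSub

open Groth.Agent.Helper1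

variable {X : Scheme.{u}}

/-- sections of a monomorphism of modules are injective -/
theorem injective_app_of_mono {M N : X.Modules} (φ : M ⟶ N) [hφ : Mono φ]
    (V : X.Opens) : Function.Injective (φ.val.app (op V)).hom := by
  have hφ' : @Mono (SheafOfModules.{u} X.ringCatSheaf) _ M N φ := hφ
  have h1 : Mono ((SheafOfModules.evaluation.{u} X.ringCatSheaf (op V)).map φ) :=
    Functor.map_mono (SheafOfModules.evaluation.{u} X.ringCatSheaf (op V)) φ
  exact (ModuleCat.mono_iff_injective _).mp h1

theorem exists_res_eq_zero_of_germ (M : X.Modules) {U : X.Opens} (x : X) (hx : x ∈ U) (t : Γ(M, U))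
    (h : M.presheaf.germ U x hx t = 0) :
    ∃ (V : X.Opens) (hVU : V ≤ U), x ∈ V ∧ QcCech.res M hVU t = 0 := by
  obtain ⟨W, hxW, iW, _, e⟩ := TopCat.Presheaf.germ_eq M.presheaf x hx hx t 0 (by rw [h, map_zero])
  rw [map_zero] at e
  exact ⟨W, iW.le, hxW, e⟩

theorem stalkMap_injective_of_mono {G N : X.Modules} (i : G ⟶ N) [Mono i] (x : X) :
    Function.Injective (RefHull.stalkMapₗ i x) := by
  rw [injective_iff_map_eq_zero]
  intro w hw
  obtain ⟨U, hxU, s, rfl⟩ := TopCat.Presheaf.exists_germ_eq G.presheaf w
  rw [RefHull.stalkMapₗ_germ] at hw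
  obtain ⟨V, hVU, hxV, e⟩ := exists_res_eq_zero_of_germ N x hxU _ hw
  have e1 : i.app V (QcCech.res G hVU s) = 0 := by
    rw [← e]
    have := congrArg (fun f => f.hom s) (i.mapPresheaf.naturality (homOfLE hVU).op)
    exact this
  have e2 : QcCech.res G hVU s = 0 := by
    apply injective_app_of_mono i V
    exact e1.trans (map_zero _).symm
  have e3 : G.presheaf.germ U x hxU s = G.presheaf.germ V x hxV (QcCech.res G hVU s) :=
    (TopCat.Presheaf.germ_res_apply G.presheaf (homOfLE hVU) x hxV s).symm
  rw [e3, e2, map_zero]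

/-- a submodule of a module with torsion-free stalks has torsion-free stalks -/
theorem isTorsionFree_of_mono {G N : X.Modules} (i : G ⟶ N) [Mono i] (h : TorSh.IsTorsionFree N) :
    TorSh.IsTorsionFree G := fun x => by
  haveI := h x
  exact Function.Injective.moduleIsTorsionFree (RefHull.stalkMapₗ i x)
    (stalkMap_injective_of_mono i x) (fun r m => map_smul (RefHull.stalkMapₗ i x) r m)

end Groth.Agent.Helper2.TFSub
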