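import Mathlib
import Groth.Prelude.Def_CurvBase
import Groth.Agent.Lib.Helper2.TorFree.Geo

/-!
# A closed non-isolated point of a reduced locally Noetherian scheme is not an associated point of a
module with torsion-free stalks (helper2)
-/

set_option autoImplicit false
universe u
open CategoryTheory CategoryTheory.Limits AlgebraicGeometry TopologicalSpace

namespace Groth.Agent.Helper2.TFAss

open Groth.Agent.Lead Groth.Agent.Helper1

/-- over a reduced Noetherian local ring whose maximal ideal is not a minimal prime, the maximal ideal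
is not an associated prime of a torsion-free module -/
theorem not_isAssociatedPrime_maximalIdeal (R : Type*) [CommRing R] [IsLocalRing R] [IsReduced R]
    [IsNoetherianRing R] (hmin : IsLocalRing.maximalIdeal R ∉ minimalPrimes R)
    (N : Type*) [AddCommGroup N] [Module R N] [Module.IsTorsionFree R N] :
    ¬ IsAssociatedPrime (IsLocalRing.maximalIdeal R) N := by
  rintro ⟨hprime, x, hx⟩
  have hfin : (minimalPrimes R).Finite := minimalPrimes.finite_of_isNoetherianRing R
  have hna : ¬ ((IsLocalRing.maximalIdeal R : Set R) ⊆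
      ⋃ q ∈ (↑hfin.toFinset : Set (Ideal R)), (q : Set R)) := by
    intro hsub
    obtain ⟨q, hq, hle⟩ := (Ideal.subset_union_prime (f := fun q : Ideal R => q) ⊥ ⊥
      (fun q hq _ _ => Ideal.minimalPrimes_isPrime (hfin.mem_toFinset.1 hq))).1 hsub
    have hq' := hfin.mem_toFinset.1 hq
    haveI := Ideal.minimalPrimes_isPrime hq'
    have : IsLocalRing.maximalIdeal R = q :=
      le_antisymm hle (IsLocalRing.le_maximalIdeal (Ideal.IsPrime.ne_top inferInstance))
    exact hmin (this ▸ hq')
  rw [Set.not_subset] at hna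
  obtain ⟨r, hr, hr'⟩ := hna
  have hreg : IsRegular r := by
    apply TFAlg.isRegular_of_notMem_minimalPrimes
    intro q hq hrq
    apply hr'
    simp only [Set.mem_iUnion]
    exact ⟨q, by simpa using hq, hrq⟩
  have hr2 : r ∈ (Submodule.colon (⊥ : Submodule R N) {x}).radical := hx ▸ hr
  obtain ⟨n, hn⟩ := hr2
  rw [Submodule.mem_colon_singleton, Submodule.mem_bot] at hn
  have hx0 : x = 0 := ((hreg.pow n).smul_eq_zero_iff_right).1 hn
  have htop : (Submodule.colon (⊥ : Submodule R N) {x}).radical = ⊤ := by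
    rw [Ideal.radical_eq_top, Ideal.eq_top_iff_one, Submodule.mem_colon_singleton, hx0, smul_zero]
    exact Submodule.mem_bot R |>.2 rfl
  exact hprime.ne_top (hx.trans htop)

variable {X : Scheme.{u}}

/-- a closed point which is a generic point of an affine open neighbourhood is open -/
theorem isOpen_singleton_of_minimal [IsLocallyNoetherian X] {U : X.Opens} (hU : IsAffineOpen U)
    (x : U) (hxcl : IsClosed ({x.1} : Set X))
    (hmin : (hU.primeIdealOf x).asIdeal ∈ minimalPrimes Γ(X, U)) : IsOpen ({x.1} : Set X) := by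
  haveI : IsNoetherianRing Γ(X, U) := IsLocallyNoetherian.component_noetherian ⟨U, hU⟩
  obtain ⟨f, hf, hall⟩ := TFAlg.exists_notMem_forall_le hmin
  have heq : ({x.1} : Set X) = (X.basicOpen f : Set X) := by
    ext z
    constructor
    · rintro rfl
      exact (SD.mem_basicOpen_iff hU x f).2 hf
    · intro hz
      have hzU : z ∈ U := X.basicOpen_le f hz
      have h1 : f ∉ (hU.primeIdealOf ⟨z, hzU⟩).asIdeal :=
        (SD.mem_basicOpen_iff hU ⟨z, hzU⟩ f).1 hz
      have h2 := hall _ (hU.primeIdealOf ⟨z, hzU⟩).isPrime h1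
      have h3 : x.1 ⤳ z := TFGeo.specializes_of_le hU ⟨z, hzU⟩ x h2
      have h4 : z ∈ closure ({x.1} : Set X) := specializes_iff_mem_closure.1 h3
      rwa [hxcl.closure_eq] at h4
  rw [heq]
  exact (X.basicOpen f).isOpen

/-- at a closed non-isolated point the maximal ideal of the local ring is not a minimal prime -/
theorem maximalIdeal_notMem_minimalPrimes [IsLocallyNoetherian X] (x : X)
    (hxcl : IsClosed ({x} : Set X)) (hxo : ¬ IsOpen ({x} : Set X)) :
    IsLocalRing.maximalIdeal (X.presheaf.stalk x) ∉ minimalPrimes (X.presheaf.stalk x) := by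
  intro hmin
  obtain ⟨U, hU, hxU⟩ : ∃ U : X.Opens, IsAffineOpen U ∧ x ∈ U := by
    obtain ⟨_, ⟨U, hU, rfl⟩, h1, -⟩ :=
      X.isBasis_affineOpens.exists_subset_of_mem_open (Set.mem_univ x) isOpen_univ
    exact ⟨U, hU, h1⟩
  obtain ⟨x', rfl⟩ : ∃ x' : U, x'.1 = x := ⟨⟨x, hxU⟩, rfl⟩
  apply hxo
  refine isOpen_singleton_of_minimal hU x' hxcl ?_
  haveI := hU.isLocalization_stalk x'
  have h1 := IsLocalization.minimalPrimes_map (hU.primeIdealOf x').asIdeal.primeCompl
    (X.presheaf.stalk x'.1) (⊥ : Ideal Γ(X, U))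
  rw [Ideal.map_bot] at h1
  have hQ' : IsLocalRing.maximalIdeal (X.presheaf.stalk x'.1) ∈
      (⊥ : Ideal (X.presheaf.stalk x'.1)).minimalPrimes := hmin
  rw [h1] at hQ'
  have h2 : (IsLocalRing.maximalIdeal (X.presheaf.stalk x'.1)).under Γ(X, U) =
      (hU.primeIdealOf x').asIdeal :=
    IsLocalization.AtPrime.under_maximalIdeal (X.presheaf.stalk x'.1) _
  rw [Set.mem_preimage, h2] at hQ'
  exact hQ'

/-- a closed non-isolated point of a reduced locally Noetherian scheme is not an associated point of a
module with torsion-free stalks -/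
theorem not_isAssPoint [IsReduced X] [IsLocallyNoetherian X] (M : X.Modules)
    (htf : TorSh.IsTorsionFree M) (x : X) (hxcl : IsClosed ({x} : Set X))
    (hxo : ¬ IsOpen ({x} : Set X)) : ¬ Curv2.IsAssPoint M x := by
  haveI := htf x
  exact not_isAssociatedPrime_maximalIdeal (X.presheaf.stalk x)
    (maximalIdeal_notMem_minimalPrimes x hxcl hxo) (M.presheaf.stalk x)

end Groth.Agent.Helper2.TFAss
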