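import Mathlib
import Groth.Agent.Lib.Helper2.TorFree.Geo

/-!
# Sections of modules with torsion-free stalks on a reduced locally Noetherian scheme are detected at
generic points (helper2)
-/

set_option autoImplicit false
universe u
open CategoryTheory CategoryTheory.Limits AlgebraicGeometry TopologicalSpace

namespace Groth.Agent.Helper2.TFElem

open Groth.Agent.Lead Groth.Agent.Helper1

variable {X : Scheme.{u}}

attribute [local instance] SD.stalkModule

/-- a section over an affine open with nonzero germ at a point where the stalk is torsion-free has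
nonzero germ at a generic point of the affine open specializing to that point -/
theorem exists_generic_germ_ne_zero [IsReduced X] [IsLocallyNoetherian X] (F : X.Modules)
    [F.IsQuasicoherent] {W : X.Opens} (hW : IsAffineOpen W) (s : Γ(F, W)) (y : W)
    (hs : F.presheaf.germ W y.1 y.2 s ≠ 0)
    (htf : Module.IsTorsionFree (X.presheaf.stalk y.1) (F.presheaf.stalk y.1)) :
    ∃ η : W, F.presheaf.germ W η.1 η.2 s ≠ 0 ∧
      (hW.primeIdealOf η).asIdeal ∈ minimalPrimes Γ(X, W) ∧
      (hW.primeIdealOf η).asIdeal ≤ (hW.primeIdealOf y).asIdeal := by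
  haveI := SD.isLocalizedModule_germ F hW y
  haveI := hW.isLocalization_stalk y
  obtain ⟨m, hm⟩ : ∃ m : F.presheaf.stalk y.1, m = F.presheaf.germ W y.1 y.2 s := ⟨_, rfl⟩
  obtain ⟨N, hN⟩ : ∃ N : Submodule (X.presheaf.stalk y.1) (F.presheaf.stalk y.1),
      N = Submodule.span (X.presheaf.stalk y.1) {m} := ⟨_, rfl⟩
  have hmN : m ∈ N := by rw [hN]; exact Submodule.mem_span_singleton_self m
  haveI : Nontrivial N := ⟨⟨⟨m, hmN⟩, 0, fun h => hs (by
    rw [← hm]
    exact congrArg Subtype.val h)⟩⟩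
  haveI : Module.IsTorsionFree (X.presheaf.stalk y.1) N :=
    Function.Injective.moduleIsTorsionFree (N.subtype) N.injective_subtype (fun r n => rfl)
  obtain ⟨Q, hQ, hle⟩ := TFAlg.exists_minimalPrime_ge_annihilator (R := X.presheaf.stalk y.1) N
  haveI hQp : Q.IsPrime := Ideal.minimalPrimes_isPrime hQ
  obtain ⟨q, hq⟩ : ∃ q : Ideal Γ(X, W), q = Q.comap (algebraMap Γ(X, W) (X.presheaf.stalk y.1)) :=
    ⟨_, rfl⟩
  have hqmin : q ∈ minimalPrimes Γ(X, W) := by
    have h1 := IsLocalization.minimalPrimes_map (hW.primeIdealOf y).asIdeal.primeCompl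
      (X.presheaf.stalk y.1) (⊥ : Ideal Γ(X, W))
    rw [Ideal.map_bot] at h1
    have hQ' : Q ∈ (⊥ : Ideal (X.presheaf.stalk y.1)).minimalPrimes := hQ
    rw [h1] at hQ'
    rw [hq]
    exact hQ'
  haveI hqprime : q.IsPrime := Ideal.minimalPrimes_isPrime hqmin
  have hqle : q ≤ (hW.primeIdealOf y).asIdeal := by
    have h1 := (IsLocalization.isPrime_iff_isPrime_disjoint
      (hW.primeIdealOf y).asIdeal.primeCompl (X.presheaf.stalk y.1) Q).1 hQp
    intro a ha
    by_contra hna
    rw [hq] at ha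
    exact Set.disjoint_left.1 h1.2 hna ha
  obtain ⟨η, hη⟩ : ∃ η : W, hW.primeIdealOf η = ⟨q, hqprime⟩ :=
    ⟨⟨hW.fromSpec ⟨q, hqprime⟩, SD.fromSpec_mem hW _⟩, SD.primeIdealOf_fromSpec hW _⟩
  refine ⟨η, ?_, by rw [hη]; exact hqmin, by rw [hη]; exact hqle⟩
  intro h0
  haveI := SD.isLocalizedModule_germ F hW η
  have h1 : SD.germₗ F η s = 0 := h0
  rw [IsLocalizedModule.eq_zero_iff (hW.primeIdealOf η).asIdeal.primeCompl (SD.germₗ F η)] at h1
  obtain ⟨f, hf⟩ := h1
  have hfq : f.1 ∉ q := by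
    have h3 : f.1 ∉ (hW.primeIdealOf η).asIdeal := f.2
    have h4 : (hW.primeIdealOf η).asIdeal = q := by rw [hη]
    intro hmem
    exact h3 (h4.symm ▸ hmem)
  apply hfq
  rw [hq]
  change algebraMap Γ(X, W) (X.presheaf.stalk y.1) f.1 ∈ Q
  apply hle
  rw [Module.mem_annihilator]
  rintro ⟨n, hn⟩
  apply Subtype.ext
  change algebraMap Γ(X, W) (X.presheaf.stalk y.1) f.1 • n = 0
  rw [hN, Submodule.mem_span_singleton] at hn
  obtain ⟨r, rfl⟩ := hn
  rw [smul_comm]
  have h2 : algebraMap Γ(X, W) (X.presheaf.stalk y.1) f.1 • m = 0 := by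
    rw [hm]
    change f.1 • SD.germₗ F y s = 0
    rw [← map_smul]
    have hf' : f.1 • s = 0 := hf
    rw [hf', map_zero]
  rw [h2, smul_zero]

end Groth.Agent.Helper2.TFElem
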