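import Mathlib
import Groth.Agent.Lib.Helper2.TorFree.Elem

/-!
# Sections of modules with torsion-free stalks vanishing on a dense open vanish (helper2)
-/

set_option autoImplicit false
universe u
open CategoryTheory CategoryTheory.Limits AlgebraicGeometry TopologicalSpace

namespace Groth.Agent.Helper2.TFDense

open Groth.Agent.Lead Groth.Agent.Helper1

variable {X : Scheme.{u}}

/-- a generic point of an affine open lies in every dense open -/
theorem generic_mem_dense [IsLocallyNoetherian X] {W : X.Opens} (hW : IsAffineOpen W) (η : W)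
    (hmin : (hW.primeIdealOf η).asIdeal ∈ minimalPrimes Γ(X, W)) (U : X.Opens)
    (hU : Dense (U : Set X)) : η.1 ∈ U := by
  haveI : IsNoetherianRing Γ(X, W) := IsLocallyNoetherian.component_noetherian ⟨W, hW⟩
  obtain ⟨f, hf, hall⟩ := TFAlg.exists_notMem_forall_le hmin
  have hη : η.1 ∈ X.basicOpen f := (SD.mem_basicOpen_iff hW η f).2 hf
  obtain ⟨z, hzf, hzU⟩ : ((X.basicOpen f : Set X) ∩ (U : Set X)).Nonempty :=
    hU.inter_open_nonempty _ (X.basicOpen f).isOpen ⟨η.1, hη⟩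
  have hzW : z ∈ W := X.basicOpen_le f hzf
  have h1 : f ∉ (hW.primeIdealOf ⟨z, hzW⟩).asIdeal := (SD.mem_basicOpen_iff hW ⟨z, hzW⟩ f).1 hzf
  have h2 := hall _ (hW.primeIdealOf ⟨z, hzW⟩).isPrime h1
  have h3 : η.1 ⤳ z := TFGeo.specializes_of_le hW ⟨z, hzW⟩ η h2
  exact h3.mem_open U.2 hzU

/-- a section with nonzero germ somewhere has nonzero germ at a generic point of an affine open -/
theorem exists_generic_of_ne_zero [IsReduced X] [IsLocallyNoetherian X] (G : X.Modules)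
    [G.IsQuasicoherent] (htf : TorSh.IsTorsionFree G) {V : X.Opens} (s : Γ(G, V)) (hs : s ≠ 0) :
    ∃ (W : X.Opens) (hW : IsAffineOpen W) (_ : W ≤ V) (η : W),
      (hW.primeIdealOf η).asIdeal ∈ minimalPrimes Γ(X, W) ∧
        ∃ hηV : η.1 ∈ V, G.presheaf.germ V η.1 hηV s ≠ 0 := by
  obtain ⟨y, hyV, hy⟩ : ∃ y, ∃ hy : y ∈ V, G.presheaf.germ V y hy s ≠ 0 := by
    by_contra hcon
    push Not at hcon
    apply hs
    apply G.isSheaf.section_ext (U := Opposite.op V)
    intro y hy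
    have h0 : G.presheaf.germ V y hy s = G.presheaf.germ V y hy 0 := by
      rw [hcon y hy, map_zero]
    obtain ⟨W, hyW, iU, iV, hW⟩ := TopCat.Presheaf.germ_eq G.presheaf y hy hy s 0 h0
    exact ⟨W, iU.le, hyW, hW⟩
  obtain ⟨W, hW, hyW, hWV⟩ : ∃ W : X.Opens, IsAffineOpen W ∧ y ∈ W ∧ W ≤ V := by
    obtain ⟨_, ⟨W, hW, rfl⟩, h1, h2⟩ :=
      X.isBasis_affineOpens.exists_subset_of_mem_open hyV V.2
    exact ⟨W, hW, h1, h2⟩
  obtain ⟨s', hs'def⟩ : ∃ s' : Γ(G, W), s' = G.presheaf.map (homOfLE hWV).op s := ⟨_, rfl⟩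
  have hs' : G.presheaf.germ W y hyW s' ≠ 0 := by
    rw [hs'def, TopCat.Presheaf.germ_res_apply]
    exact hy
  obtain ⟨η, hη, hmin, -⟩ :=
    TFElem.exists_generic_germ_ne_zero G hW s' ⟨y, hyW⟩ hs' (htf y)
  refine ⟨W, hW, hWV, η, hmin, hWV η.2, ?_⟩
  rw [hs'def, TopCat.Presheaf.germ_res_apply] at hη
  exact hη

/-- a section of a module with torsion-free stalks whose germs vanish on a dense open is zero -/
theorem eq_zero_of_germ_eq_zero_on_dense [IsReduced X] [IsLocallyNoetherian X] (G : X.Modules)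
    [G.IsQuasicoherent] (htf : TorSh.IsTorsionFree G) (U : X.Opens) (hU : Dense (U : Set X))
    {V : X.Opens} (s : Γ(G, V))
    (h : ∀ (y : X) (hy : y ∈ V), y ∈ U → G.presheaf.germ V y hy s = 0) : s = 0 := by
  by_contra hs
  obtain ⟨W, hW, hWV, η, hmin, hηV, hne⟩ := exists_generic_of_ne_zero G htf s hs
  exact hne (h η.1 hηV (generic_mem_dense hW η hmin U hU))

end Groth.Agent.Helper2.TFDense
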