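import Mathlib

/-!
# Two families of elements of a field with equal `d`-fold products differ by a root of unity (helper2)
-/

set_option autoImplicit false
open Polynomial

namespace Groth.Agent.Helper2.RootUnity

/-- an element of a domain over an algebraically closed field whose `d`-th power is one comes from a
`d`-th root of unity of the field -/
theorem exists_rootOfUnity (k K : Type*) [Field k] [IsAlgClosed k] [CommRing K] [IsDomain K]
    (f : k →+* K) (c : K) (d : ℕ) (hd : 1 ≤ d) (hc : c ^ d = 1) :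
    ∃ ξ : k, ξ ^ d = 1 ∧ f ξ = c := by
  have hp0 : (X ^ d - C (1 : k) : k[X]) ≠ 0 := X_pow_sub_C_ne_zero (by omega) 1
  have hroot : ((X ^ d - C (1 : k) : k[X]).map f).IsRoot c := by
    simp [hc]
  obtain ⟨ξ, hξ⟩ := (IsAlgClosed.splits _).mem_range_of_isRoot hp0 hroot
  refine ⟨ξ, f.injective ?_, hξ⟩
  rw [map_pow, hξ, hc, map_one]

/-- two families with the same mixed `d`-fold products differ by a `d`-th root of unity -/
theorem exists_eq_mul {K : Type*} [CommRing K] [IsDomain K]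
    (hinv : ∀ x : K, x ≠ 0 → ∃ u, x * u = 1) {ι : Type*} (l l' : ι → K) (d' : ℕ)
    (H : ∀ a a₀, l a * l a₀ ^ d' = l' a * l' a₀ ^ d') :
    ∃ c : K, c ^ (d' + 1) = 1 ∧ ∀ a, l' a = c * l a := by
  have H1 : ∀ a, l a ^ (d' + 1) = l' a ^ (d' + 1) := fun a => by
    rw [pow_succ', pow_succ']
    exact H a a
  by_cases h0 : ∀ a, l a = 0
  · refine ⟨1, one_pow _, fun a => ?_⟩
    have h1 := H1 a
    rw [h0 a, zero_pow (Nat.succ_ne_zero d')] at h1
    rw [h0 a, mul_zero]
    exact pow_eq_zero_iff (Nat.succ_ne_zero d') |>.1 h1.symm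
  · push Not at h0
    obtain ⟨a₀, ha₀⟩ := h0
    obtain ⟨u, hu⟩ := hinv _ ha₀
    refine ⟨l' a₀ * u, ?_, fun a => ?_⟩
    · rw [mul_pow, ← H1 a₀, ← mul_pow, hu, one_pow]
    · have h2 := H a a₀
      have h3 := H1 a₀
      have hu' : (l a₀ * u) ^ (d' + 1) = 1 := by rw [hu, one_pow]
      have hu'' : (l a₀ * u) ^ d' = 1 := by rw [hu, one_pow]
      calc l' a = l' a * (l a₀ * u) ^ (d' + 1) := by rw [hu', mul_one]
        _ = l' a * l a₀ ^ (d' + 1) * u ^ (d' + 1) := by rw [mul_pow]; ring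
        _ = l' a * l' a₀ ^ (d' + 1) * u ^ (d' + 1) := by rw [h3]
        _ = (l' a * l' a₀ ^ d') * l' a₀ * u ^ (d' + 1) := by ring
        _ = (l a * l a₀ ^ d') * l' a₀ * u ^ (d' + 1) := by rw [h2]
        _ = l' a₀ * u * l a * (l a₀ * u) ^ d' := by rw [mul_pow]; ring
        _ = l' a₀ * u * l a := by rw [hu'', mul_one]

end Groth.Agent.Helper2.RootUnity
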